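import Mathlib
example (a : WithBot ℕ∞) (h : a < ((0:ℕ) : WithBot ℕ∞)) : a = ⊥ := by
  induction a using WithBot.recBotCoe with
  | bot => rfl
  | coe a =>
    exfalso
    have : (0 : WithBot ℕ∞) ≤ (a : WithBot ℕ∞) := by exact_mod_cast (zero_le : (0:ℕ∞) ≤ a)
    exact absurd h (not_lt.mpr (by exact_mod_cast this))
example (a : WithBot ℕ∞) (k : ℕ) (h : a < ((k+1:ℕ) : WithBot ℕ∞)) : a ≤ (k : WithBot ℕ∞) := by
  induction a using WithBot.recBotCoe with
  | bot => exact bot_le
  | coe a =>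
    have h' : a < ((k + 1 : ℕ) : ℕ∞) := by exact_mod_cast h
    have : a ≤ (k : ℕ∞) := by
      exact Order.le_of_lt_add_one (by exact_mod_cast h')
    exact_mod_cast this
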